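import Cfsg.Agent.Lib.Helper62.CTI.CDA
import Cfsg.Agent.S1224

/-!
# Project CTI (S4064), module [C-DB]: `u` inverts the two-point stabilizer `D = N ∩ uNu⁻¹`
-/

set_option autoImplicit false

namespace Cfsg.Agent.Lib.Helper62.CTI

open Cfsg Cfsg.Agent.Lib.Helper31.CTI Cfsg.Agent.Lib.Helper21

variable {G : Type*} [Group G] [Finite G] {M N : Subgroup G}

/-- `D` acts regularly on the involutions of `N`. -/
theorem card_involutions (h : CData M N) {u : G} (hu : orderOf u = 2) (huN : u ∉ N) :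
    Nat.card {t : G // orderOf t = 2 ∧ t ∈ N} = Nat.card (dSub N u) := by
  obtain ⟨z, hzM, hz2, hzc⟩ := exists_central_involution h
  have hz1 : z ≠ 1 := inv_ne_one hz2
  have hDN : dSub N u ≤ N := fun d hd => (mem_dSub.mp hd).1
  let g : dSub N u → {t : G // orderOf t = 2 ∧ t ∈ N} := fun d =>
    ⟨(d : G) * z * (d : G)⁻¹, orderOf_conj_eq_two hz2 d, M_le_N h (conj_mem_M h (hDN d.2) hzM)⟩
  have hg : Function.Bijective g := by
    constructor
    · rintro ⟨d, hd⟩ ⟨d', hd'⟩ hab
      have e' : d * z * d⁻¹ = d' * z * d'⁻¹ := congrArg Subtype.val hab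
      have hc : (d'⁻¹ * d) * z = z * (d'⁻¹ * d) := by
        calc (d'⁻¹ * d) * z = d'⁻¹ * (d * z * d⁻¹) * d := by group
          _ = d'⁻¹ * (d' * z * d'⁻¹) * d := by rw [e']
          _ = z * (d'⁻¹ * d) := by group
      have hM : d'⁻¹ * d ∈ M := mem_M_of_commute h hzM hz1 hc
      have hD : d'⁻¹ * d ∈ dSub N u := (dSub N u).mul_mem ((dSub N u).inv_mem hd') hd
      have h1 := eq_of_mem_dSub_of_mem_M h huN hD hM
      have hdd : d = d' := by
        have : d = d' * (d'⁻¹ * d) := by group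
        rw [this, h1, mul_one]
      subst hdd
      rfl
    · rintro ⟨t, ht2, htN⟩
      obtain ⟨d, hd, e⟩ := involutions_conj_dSub h hu huN hz2 (M_le_N h hzM) ht2 htN
      exact ⟨⟨d, hd⟩, Subtype.ext e⟩
  exact (Nat.card_congr (Equiv.ofBijective g hg)).symm

end Cfsg.Agent.Lib.Helper62.CTI

namespace Cfsg.Agent.Lib.Helper31.CTI

open Cfsg Cfsg.Agent.Lib.Helper62.CTI Cfsg.Agent.Lib.Helper21

variable {G : Type*} [Group G]

variable {M N : Subgroup G}

/-- [C-DB] `u` inverts `D` (C-SE, C-INV, C-DA, landed S1224: the coset `uD` consists of involutions). -/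
theorem cdata_dSub_inverts [Finite G] (h : CData M N) {u : G} (hu : orderOf u = 2) (huN : u ∉ N) :
    ∀ d ∈ dSub N u, u * d * u⁻¹ = d⁻¹ := by
  have hSE := cdata_stronglyEmbedded h
  have huu : u * u = 1 := inv_mul_self hu
  have huinv : u⁻¹ = u := inv_inv_eq hu
  have hne : ((QuotientGroup.mk 1 : G ⧸ N)) ≠ (QuotientGroup.mk u : G ⧸ N) := by
    intro e
    apply huN
    have := QuotientGroup.eq.mp e
    simpa using this
  have hcard := Cfsg.Agent.S1224.result N hSE (QuotientGroup.mk 1) (QuotientGroup.mk u) hne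
  rw [card_involutions h hu huN] at hcard
  -- the map `i ↦ u⁻¹ i`
  have hmem : ∀ i : {i : G // orderOf i = 2 ∧ i • (QuotientGroup.mk 1 : G ⧸ N) = QuotientGroup.mk u},
      u⁻¹ * (i : G) ∈ dSub N u := by
    rintro ⟨i, hi2, hi⟩
    have hii : i * i = 1 := inv_mul_self hi2
    rw [mem_dSub]
    constructor
    · rw [← smul_mk_one_eq_iff (H := N), mul_smul, hi, MulAction.Quotient.smul_mk, smul_eq_mul]
      simp
    · have e : u⁻¹ * (u⁻¹ * i) * u = i * u := by
        rw [huinv]
        calc u * (u * i) * u = (u * u) * i * u := by group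
          _ = i * u := by rw [huu, one_mul]
      rw [e, ← smul_mk_one_eq_iff (H := N), mul_smul]
      have e2 : u • (QuotientGroup.mk 1 : G ⧸ N) = QuotientGroup.mk u := by
        rw [MulAction.Quotient.smul_mk, smul_eq_mul, mul_one]
      rw [e2, ← hi, ← mul_smul, hii, one_smul]
  let φ : {i : G // orderOf i = 2 ∧ i • (QuotientGroup.mk 1 : G ⧸ N) = QuotientGroup.mk u} →
      dSub N u := fun i => ⟨u⁻¹ * (i : G), hmem i⟩
  have hφ : Function.Injective φ := by
    intro a b hab
    have : u⁻¹ * (a : G) = u⁻¹ * (b : G) := congrArg Subtype.val hab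
    exact Subtype.ext (mul_left_cancel this)
  have hbij : Function.Bijective φ := hφ.bijective_of_nat_card_le (le_of_eq hcard.symm)
  intro d hd
  obtain ⟨⟨i, hi2, hi⟩, e⟩ := hbij.2 ⟨d, hd⟩
  have e' : u⁻¹ * i = d := congrArg Subtype.val e
  have hi' : i = u * d := by rw [← e']; group
  have hii : i * i = 1 := inv_mul_self hi2
  rw [hi'] at hii
  rw [huinv]
  calc u * d * u = (u * d) * (u * d) * d⁻¹ := by group
    _ = d⁻¹ := by rw [hii, one_mul]

end Cfsg.Agent.Lib.Helper31.CTI
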