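import Cfsg.Agent.Lib.Helper31.CTI.Defs
import Cfsg.Agent.Lib.Helper21.StronglyEmbedded

/-!
# Project CTI (S4064): general facts on a configuration `CData M N`
-/

set_option autoImplicit false

namespace Cfsg.Agent.Lib.Helper62.CTI

open Cfsg Cfsg.Agent.Lib.Helper31.CTI Cfsg.Agent.Lib.Helper21

variable {G : Type*} [Group G] {M N : Subgroup G}

theorem M_le_N (h : CData M N) : M ≤ N := by
  rw [h.hN]; exact Subgroup.le_normalizer

theorem conj_mem_M (h : CData M N) {n m : G} (hn : n ∈ N) (hm : m ∈ M) : n * m * n⁻¹ ∈ M := by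
  rw [h.hN] at hn
  exact (Subgroup.mem_normalizer_iff.mp hn m).mp hm

theorem conj_mem_M' (h : CData M N) {n m : G} (hn : n ∈ N) (hm : m ∈ M) : n⁻¹ * m * n ∈ M := by
  have := conj_mem_M h (N.inv_mem hn) hm
  rwa [inv_inv] at this

/-- Trivial intersection off the normalizer. -/
theorem eq_one_of_conj_mem (h : CData M N) {g x : G} (hg : g ∉ N) (hx : x ∈ M)
    (hgx : g * x * g⁻¹ ∈ M) : x = 1 := by
  rw [h.hN] at hg
  exact h.nice.ti g hg x hx hgx

/-- Elements of `N` commuting with a nonidentity element of `M` lie in `M`. -/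
theorem mem_M_of_commute (h : CData M N) {c m : G} (hm : m ∈ M) (hm1 : m ≠ 1)
    (hc : c * m = m * c) : c ∈ M := by
  apply h.nice.cc m hm hm1
  rw [Subgroup.mem_centralizer_singleton_iff]
  exact hc

variable [Finite G]

theorem orderOf_coprime_index (h : CData M N) {m : G} (hm : m ∈ M) :
    (orderOf m).Coprime M.index := by
  have h1 : orderOf m ∣ Nat.card M := by
    rw [← Subgroup.orderOf_mk m hm]; exact orderOf_dvd_natCard _
  exact Nat.Coprime.coprime_dvd_left h1 h.nice.hall

theorem two_coprime_index (h : CData M N) : Nat.Coprime 2 M.index :=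
  Nat.Coprime.coprime_dvd_left (even_iff_two_dvd.mp h.even) h.nice.hall

/-- An element of `N` whose order is prime to `|G : M|` lies in `M`. -/
theorem mem_M_of_coprime (h : CData M N) {x : G} (hxN : x ∈ N)
    (hcop : (orderOf x).Coprime M.index) : x ∈ M := by
  have hMN : M ≤ N := M_le_N h
  haveI : (M.subgroupOf N).Normal := by
    have := h.hN
    subst this
    exact Subgroup.normal_in_normalizer
  set x' : N := ⟨x, hxN⟩ with hx'
  have h1 : orderOf (QuotientGroup.mk' (M.subgroupOf N) x') ∣ orderOf x' :=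
    orderOf_map_dvd _ _
  have h2 : orderOf (QuotientGroup.mk' (M.subgroupOf N) x') ∣ (M.subgroupOf N).index := by
    rw [Subgroup.index]
    exact orderOf_dvd_natCard _
  have h3 : (M.subgroupOf N).index ∣ M.index := by
    have := Subgroup.relIndex_mul_index hMN
    exact Dvd.intro _ this
  have h4 : orderOf x' = orderOf x := Subgroup.orderOf_mk x hxN
  have h5 : orderOf (QuotientGroup.mk' (M.subgroupOf N) x') = 1 := by
    have hc : (orderOf x').Coprime M.index := by rw [h4]; exact hcop
    exact Nat.Coprime.eq_one_of_dvd (Nat.Coprime.coprime_dvd_left h1 hc) (h2.trans h3)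
  rw [orderOf_eq_one_iff] at h5
  have h6 : x' ∈ M.subgroupOf N := by
    rw [← QuotientGroup.eq_one_iff]
    exact h5
  exact Subgroup.mem_subgroupOf.mp h6

/-- Involutions of `N` lie in `M`. -/
theorem involution_mem_M (h : CData M N) {t : G} (htN : t ∈ N) (ht : orderOf t = 2) : t ∈ M :=
  mem_M_of_coprime h htN (by rw [ht]; exact two_coprime_index h)

end Cfsg.Agent.Lib.Helper62.CTI
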