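import Cfsg.Agent.Lib.Helper62.CTI.CInv

/-!
# Project CTI (S4064), module [C-DA]: the two-point stabilizer `D = N ∩ uNu⁻¹`
-/

set_option autoImplicit false

namespace Cfsg.Agent.Lib.Helper62.CTI

open Cfsg Cfsg.Agent.Lib.Helper31.CTI Cfsg.Agent.Lib.Helper21

variable {G : Type*} [Group G] {M N : Subgroup G}

theorem mem_dSub {u d : G} : d ∈ dSub N u ↔ d ∈ N ∧ u⁻¹ * d * u ∈ N := by
  unfold dSub
  rw [Subgroup.mem_inf, mem_map_conj_iff]

variable [Finite G]

/-- `D ∩ M = 1`. -/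
theorem dSub_inf_M (h : CData M N) {u : G} (huN : u ∉ N) : dSub N u ⊓ M = ⊥ := by
  rw [eq_bot_iff]
  intro d hd
  obtain ⟨hdD, hdM⟩ := Subgroup.mem_inf.mp hd
  obtain ⟨-, hdu⟩ := mem_dSub.mp hdD
  have hord : orderOf (u⁻¹ * d * u) = orderOf d := by
    have := MulEquiv.orderOf_eq (MulAut.conj u⁻¹) d
    rwa [MulAut.conj_apply, inv_inv] at this
  have hxM : u⁻¹ * d * u ∈ M :=
    mem_M_of_coprime h hdu (by rw [hord]; exact orderOf_coprime_index h hdM)
  have hx1 : u⁻¹ * d * u = 1 := by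
    apply eq_one_of_conj_mem h huN hxM
    have : u * (u⁻¹ * d * u) * u⁻¹ = d := by group
    rw [this]; exact hdM
  rw [Subgroup.mem_bot]
  have : d = u * (u⁻¹ * d * u) * u⁻¹ := by group
  rw [this, hx1]; group

theorem eq_of_mem_dSub_of_mem_M (h : CData M N) {u : G} (huN : u ∉ N) {d : G}
    (hd : d ∈ dSub N u) (hdM : d ∈ M) : d = 1 := by
  have : d ∈ dSub N u ⊓ M := Subgroup.mem_inf.mpr ⟨hd, hdM⟩
  rw [dSub_inf_M h huN, Subgroup.mem_bot] at this
  exact this

/-- `N = D M` with unique factorization. -/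
theorem card_dSub_mul_card_M (h : CData M N) {u : G} (hu : orderOf u = 2) (huN : u ∉ N) :
    Nat.card (dSub N u) * Nat.card M = Nat.card N := by
  obtain ⟨z, hzM, hz2, hzc⟩ := exists_central_involution h
  have hz1 : z ≠ 1 := inv_ne_one hz2
  have hDN : dSub N u ≤ N := fun d hd => (mem_dSub.mp hd).1
  let f : dSub N u × M → N := fun p =>
    ⟨(p.1 : G) * (p.2 : G), N.mul_mem (hDN p.1.2) (M_le_N h p.2.2)⟩
  have hf : Function.Bijective f := by
    constructor
    · rintro ⟨⟨d, hd⟩, ⟨m, hm⟩⟩ ⟨⟨d', hd'⟩, ⟨m', hm'⟩⟩ hff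
      have e : d * m = d' * m' := congrArg Subtype.val hff
      have e1 : d'⁻¹ * d = m' * m⁻¹ := by
        have : d'⁻¹ * d = d'⁻¹ * (d * m) * m⁻¹ := by group
        rw [this, e]; group
      have hD : d'⁻¹ * d ∈ dSub N u := (dSub N u).mul_mem ((dSub N u).inv_mem hd') hd
      have hM : d'⁻¹ * d ∈ M := by rw [e1]; exact M.mul_mem hm' (M.inv_mem hm)
      have h1 := eq_of_mem_dSub_of_mem_M h huN hD hM
      have hdd : d = d' := by
        have : d = d' * (d'⁻¹ * d) := by group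
        rw [this, h1, mul_one]
      subst hdd
      have hmm : m = m' := mul_left_cancel e
      subst hmm
      rfl
    · rintro ⟨n, hn⟩
      have ht2 : orderOf (n * z * n⁻¹) = 2 := orderOf_conj_eq_two hz2 n
      have htN : n * z * n⁻¹ ∈ N := M_le_N h (conj_mem_M h hn hzM)
      obtain ⟨d, hd, e⟩ := involutions_conj_dSub h hu huN hz2 (M_le_N h hzM) ht2 htN
      have hc : (d⁻¹ * n) * z = z * (d⁻¹ * n) := by
        have e' : n * z = d * z * d⁻¹ * n := by rw [e]; group
        calc (d⁻¹ * n) * z = d⁻¹ * (n * z) := by group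
          _ = d⁻¹ * (d * z * d⁻¹ * n) := by rw [e']
          _ = z * (d⁻¹ * n) := by group
      have hmM : d⁻¹ * n ∈ M := mem_M_of_commute h hzM hz1 hc
      refine ⟨(⟨d, hd⟩, ⟨d⁻¹ * n, hmM⟩), Subtype.ext ?_⟩
      show d * (d⁻¹ * n) = n
      group
  rw [← Nat.card_prod, Nat.card_congr (Equiv.ofBijective f hf)]

/-- The elements of `M` of order at most two. -/
theorem card_sq_eq_one (h : CData M N) {u : G} (hu : orderOf u = 2) (huN : u ∉ N) :
    Nat.card {t : G // t ∈ M ∧ t ^ 2 = 1} = Nat.card (dSub N u) + 1 := by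
  obtain ⟨z, hzM, hz2, hzc⟩ := exists_central_involution h
  have hz1 : z ≠ 1 := inv_ne_one hz2
  have hzz : z * z = 1 := inv_mul_self hz2
  have hDN : dSub N u ≤ N := fun d hd => (mem_dSub.mp hd).1
  have hconj : ∀ d : dSub N u, (d : G) * z * (d : G)⁻¹ ∈ M ∧ ((d : G) * z * (d : G)⁻¹) ^ 2 = 1 := by
    intro d
    refine ⟨conj_mem_M h (hDN d.2) hzM, ?_⟩
    rw [conj_pow, pow_two, hzz]; group
  let g : Option (dSub N u) → {t : G // t ∈ M ∧ t ^ 2 = 1} := fun o =>
    match o with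
    | none => ⟨1, M.one_mem, one_pow 2⟩
    | some d => ⟨(d : G) * z * (d : G)⁻¹, hconj d⟩
  have hg : Function.Bijective g := by
    constructor
    · intro a b hab
      have e : (g a : G) = (g b : G) := congrArg Subtype.val hab
      rcases a with _ | ⟨d, hd⟩ <;> rcases b with _ | ⟨d', hd'⟩
      · rfl
      · exfalso
        have e' : (1 : G) = d' * z * d'⁻¹ := e
        apply hz1
        have : z = d'⁻¹ * (d' * z * d'⁻¹) * d' := by group
        rw [this, ← e']; group
      · exfalso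
        have e' : d * z * d⁻¹ = (1 : G) := e
        apply hz1
        have : z = d⁻¹ * (d * z * d⁻¹) * d := by group
        rw [this, e']; group
      · have e' : d * z * d⁻¹ = d' * z * d'⁻¹ := e
        have hc : (d'⁻¹ * d) * z = z * (d'⁻¹ * d) := by
          calc (d'⁻¹ * d) * z = d'⁻¹ * (d * z * d⁻¹) * d := by group
            _ = d'⁻¹ * (d' * z * d'⁻¹) * d := by rw [e']
            _ = z * (d'⁻¹ * d) := by group
        have hM : d'⁻¹ * d ∈ M := mem_M_of_commute h hzM hz1 hc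
        have hD : d'⁻¹ * d ∈ dSub N u := (dSub N u).mul_mem ((dSub N u).inv_mem hd') hd
        have h1 := eq_of_mem_dSub_of_mem_M h huN hD hM
        have hdd : d = d' := by
          have : d = d' * (d'⁻¹ * d) := by group
          rw [this, h1, mul_one]
        subst hdd
        rfl
    · rintro ⟨t, htM, ht⟩
      by_cases ht1 : t = 1
      · exact ⟨none, Subtype.ext ht1.symm⟩
      · have ht2 : orderOf t = 2 := orderOf_eq_two_of ht1 (by rw [← pow_two]; exact ht)
        obtain ⟨d, hd, e⟩ := involutions_conj_dSub h hu huN hz2 (M_le_N h hzM) ht2 (M_le_N h htM)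
        exact ⟨some ⟨d, hd⟩, Subtype.ext e⟩
  rw [← Nat.card_congr (Equiv.ofBijective g hg), Finite.card_option]

end Cfsg.Agent.Lib.Helper62.CTI

namespace Cfsg.Agent.Lib.Helper31.CTI

open Cfsg Cfsg.Agent.Lib.Helper62.CTI Cfsg.Agent.Lib.Helper21

variable {G : Type*} [Group G]

variable {M N : Subgroup G}

/-- [C-DA] the two-point stabilizer `D = N ∩ uNu⁻¹` is a complement of `M` in `N`, acting
regularly on the involutions of `M` (C-SE, C-INV, landed S1225). -/
theorem cdata_dSub [Finite G] (h : CData M N) {u : G} (hu : orderOf u = 2) (huN : u ∉ N) :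
    dSub N u ⊓ M = ⊥ ∧ Nat.card (dSub N u) * Nat.card M = Nat.card N ∧
      Nat.card {t : G // t ∈ M ∧ t ^ 2 = 1} = Nat.card (dSub N u) + 1 :=
  ⟨dSub_inf_M h huN, card_dSub_mul_card_M h hu huN, card_sq_eq_one h hu huN⟩

end Cfsg.Agent.Lib.Helper31.CTI
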