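import Cfsg.Agent.Lib.Helper62.CTI.CSE
import Cfsg.Agent.Lib.Helper54.CNGroup
import Cfsg.Agent.S1225

/-!
# Project CTI (S4064), module [C-INV]: involutions of `N` lie in `M` and are central in `M`
-/

set_option autoImplicit false

namespace Cfsg.Agent.Lib.Helper62.CTI

open Cfsg Cfsg.Agent.Lib.Helper31.CTI Cfsg.Agent.Lib.Helper21

variable {G : Type*} [Group G] [Finite G] {M N : Subgroup G}

/-- A central involution of `M`. -/
theorem exists_central_involution (h : CData M N) :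
    ∃ z ∈ M, orderOf z = 2 ∧ ∀ m ∈ M, m * z = z * m := by
  have hF : fittingOf M = M :=
    Cfsg.Agent.Lib.Helper54.fittingOf_eq_self_of_isNilpotent M h.nice.nil
  have : Fact (Nat.Prime 2) := ⟨Nat.prime_two⟩
  obtain ⟨z, hz1, hz2, hz3⟩ := Cfsg.Agent.Lib.Helper54.exists_center_fittingOf_orderOf M 2
    (by rw [hF]; exact even_iff_two_dvd.mp h.even)
  rw [hF] at hz1 hz2
  exact ⟨z, hz1, hz3, fun m hm => Subgroup.mem_centralizer_iff.mp hz2 m hm⟩

/-- An involution outside `N`. -/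
theorem exists_involution_not_mem (h : CData M N) : ∃ u : G, orderOf u = 2 ∧ u ∉ N := by
  obtain ⟨z, hzM, hz2, -⟩ := exists_central_involution h
  obtain ⟨g, hg⟩ : ∃ g : G, g ∉ N := by
    by_contra hall
    push Not at hall
    exact h.ne_top (Subgroup.eq_top_iff' N |>.mpr hall)
  refine ⟨g * z * g⁻¹, orderOf_conj_eq_two hz2 g, ?_⟩
  intro hN
  have hM := involution_mem_M h hN (orderOf_conj_eq_two hz2 g)
  have := eq_one_of_conj_mem h hg hzM hM
  rw [this, orderOf_one] at hz2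
  exact absurd hz2 (by norm_num)

/-- Involutions of `N` are conjugate under `N ∩ uNu⁻¹` for any involution `u ∉ N`. -/
theorem involutions_conj_dSub (h : CData M N) {u : G} (hu : orderOf u = 2) (huN : u ∉ N)
    {s t : G} (hs : orderOf s = 2) (hsN : s ∈ N) (ht : orderOf t = 2) (htN : t ∈ N) :
    ∃ d ∈ dSub N u, d * s * d⁻¹ = t :=
  (Cfsg.Agent.S1225.result N (cdata_stronglyEmbedded h) u hu huN s t hs hsN ht htN).1

/-- Involutions of `N` are conjugate under `N`. -/
theorem involutions_conj (h : CData M N) {s t : G} (hs : orderOf s = 2) (hsN : s ∈ N)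
    (ht : orderOf t = 2) (htN : t ∈ N) : ∃ d ∈ N, d * s * d⁻¹ = t := by
  obtain ⟨u, hu, huN⟩ := exists_involution_not_mem h
  obtain ⟨d, hd, e⟩ := involutions_conj_dSub h hu huN hs hsN ht htN
  exact ⟨d, (Subgroup.mem_inf.mp hd).1, e⟩

end Cfsg.Agent.Lib.Helper62.CTI

namespace Cfsg.Agent.Lib.Helper31.CTI

open Cfsg Cfsg.Agent.Lib.Helper62.CTI Cfsg.Agent.Lib.Helper21

variable {G : Type*} [Group G]

variable {M N : Subgroup G}

/-- [C-INV] involutions of `N` lie in `M` and are central in `M` (C-SE + landed S1225). -/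
theorem cdata_involution [Finite G] (h : CData M N) {t : G} (htN : t ∈ N) (ht : orderOf t = 2) :
    t ∈ M ∧ ∀ m ∈ M, m * t = t * m := by
  refine ⟨involution_mem_M h htN ht, ?_⟩
  obtain ⟨z, hzM, hz2, hzc⟩ := exists_central_involution h
  obtain ⟨d, hdN, e⟩ := involutions_conj h hz2 (M_le_N h hzM) ht htN
  intro m hm
  have hm' : d⁻¹ * m * d ∈ M := conj_mem_M' h hdN hm
  have hc := hzc _ hm'
  rw [← e]
  calc m * (d * z * d⁻¹) = d * ((d⁻¹ * m * d) * z) * d⁻¹ := by group
    _ = d * (z * (d⁻¹ * m * d)) * d⁻¹ := by rw [hc]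
    _ = d * z * d⁻¹ * m := by group

end Cfsg.Agent.Lib.Helper31.CTI
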