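import Cfsg.Agent.Lib.Helper62.CTI.Base

/-!
# Project CTI (S4064), module [C-SE]: `N` is strongly embedded
-/

set_option autoImplicit false

namespace Cfsg.Agent.Lib.Helper31.CTI

open Cfsg Cfsg.Agent.Lib.Helper62.CTI Cfsg.Agent.Lib.Helper21

variable {G : Type*} [Group G]

variable {M N : Subgroup G}

/-- [C-SE] -/
theorem cdata_stronglyEmbedded [Finite G] (h : CData M N) : Cfsg.IsStronglyEmbedded N := by
  refine ⟨h.ne_top, ?_, ?_⟩
  · exact Even.trans_dvd h.even (Subgroup.card_dvd_of_le (M_le_N h))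
  · intro g hg
    by_contra hodd
    rw [Nat.not_odd_iff_even] at hodd
    have : Fact (Nat.Prime 2) := ⟨Nat.prime_two⟩
    obtain ⟨s, hs⟩ := exists_prime_orderOf_dvd_card'
      (G := ↥(N ⊓ N.map (MulAut.conj g).toMonoidHom)) 2 (even_iff_two_dvd.mp hodd)
    have hs2 : orderOf (s : G) = 2 := by rw [Subgroup.orderOf_coe]; exact hs
    have hsN : (s : G) ∈ N := (Subgroup.mem_inf.mp s.2).1
    have hsg : g⁻¹ * (s : G) * g ∈ N := (mem_map_conj_iff g _).mp (Subgroup.mem_inf.mp s.2).2
    have hsM : (s : G) ∈ M := involution_mem_M h hsN hs2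
    have hx2 : orderOf (g⁻¹ * (s : G) * g) = 2 := by
      have := orderOf_conj_eq_two hs2 g⁻¹
      rwa [inv_inv] at this
    have hxM : g⁻¹ * (s : G) * g ∈ M := involution_mem_M h hsg hx2
    have hx1 : g⁻¹ * (s : G) * g = 1 := by
      apply eq_one_of_conj_mem h hg hxM
      have : g * (g⁻¹ * (s : G) * g) * g⁻¹ = s := by group
      rw [this]; exact hsM
    rw [hx1, orderOf_one] at hx2
    exact absurd hx2 (by norm_num)

end Cfsg.Agent.Lib.Helper31.CTI
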