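import Cfsg.Agent.Lib.Helper62.CTI.CInv

/-!
# Project CTI (S4064), module [E-HOMOCYC]: if `|M| = |Ω₁(M)|²` then `M` is abelian
-/

set_option autoImplicit false

namespace Cfsg.Agent.Lib.Helper62.CTI

open Cfsg Cfsg.Agent.Lib.Helper31.CTI Cfsg.Agent.Lib.Helper21

variable {G : Type*} [Group G]

theorem comm_of_exponent_two {M : Subgroup G} (hexp : ∀ m ∈ M, m ^ 2 = 1) :
    ∀ a ∈ M, ∀ b ∈ M, a * b = b * a := by
  intro a ha b hb
  have h1 : a * a = 1 := by rw [← pow_two]; exact hexp a ha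
  have h2 : b * b = 1 := by rw [← pow_two]; exact hexp b hb
  have h3 : (a * b) * (a * b) = 1 := by rw [← pow_two]; exact hexp _ (M.mul_mem ha hb)
  have : b * a = a * b := calc
    b * a = b * a * ((a * b) * (a * b)) := by rw [h3, mul_one]
    _ = b * (a * a) * b * (a * b) := by group
    _ = a * b := by rw [h1, mul_one, h2, one_mul]
  exact this.symm

theorem exists_involution_pow {x : G} (hx : x ≠ 1) {k : ℕ} (hk : x ^ (2 ^ k) = 1) :
    ∃ m : ℕ, orderOf (x ^ m) = 2 := by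
  have hdvd : orderOf x ∣ 2 ^ k := orderOf_dvd_of_pow_eq_one hk
  obtain ⟨j, -, hj⟩ := (Nat.dvd_prime_pow Nat.prime_two).mp hdvd
  have hj0 : j ≠ 0 := by
    rintro rfl
    rw [pow_zero, orderOf_eq_one_iff] at hj
    exact hx hj
  have h2 : 2 ∣ orderOf x := by rw [hj]; exact dvd_pow_self 2 hj0
  have h0 : orderOf x ≠ 0 := by rw [hj]; positivity
  exact ⟨orderOf x / 2, orderOf_pow_orderOf_div h0 h2⟩

/-- The main step: an abelian `N`-invariant subgroup of `M` containing an element which is not of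
order at most two has at least `|Ω₁(M)|²` elements. -/
theorem card_sq_le_of_abelian [Finite G] {M N : Subgroup G} (h : CData M N)
    (h2 : IsPGroup 2 M) (X : Subgroup G) (hXM : X ≤ M)
    (hXc : ∀ a ∈ X, ∀ b ∈ X, a * b = b * a)
    (hXN : ∀ n ∈ N, ∀ g ∈ X, n * g * n⁻¹ ∈ X) {x : G} (hxX : x ∈ X) (hx2 : x ^ 2 ≠ 1) :
    (Nat.card {t : G // t ∈ M ∧ t ^ 2 = 1}) ^ 2 ≤ Nat.card X := by
  have hMN := M_le_N h
  have hx1 : x ≠ 1 := by
    rintro rfl
    exact hx2 (one_pow 2)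
  -- all elements of order at most two of `M` lie in any nontrivial `N`-invariant subgroup of `M`
  have key : ∀ R : Subgroup G, R ≤ M → (∀ n ∈ N, ∀ g ∈ R, n * g * n⁻¹ ∈ R) → (∃ r ∈ R, r ≠ 1) →
      ∀ t : G, t ∈ M → t ^ 2 = 1 → t ∈ R := by
    intro R hRM hRN ⟨r, hrR, hr1⟩ t htM ht
    by_cases ht1 : t = 1
    · rw [ht1]; exact R.one_mem
    have ht2 : orderOf t = 2 := orderOf_eq_two_of ht1 (by rw [← pow_two]; exact ht)
    obtain ⟨k, hk⟩ := h2 ⟨r, hRM hrR⟩
    have hk' : r ^ (2 ^ k) = 1 := by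
      have := congrArg Subtype.val hk
      simpa using this
    obtain ⟨m, hm⟩ := exists_involution_pow hr1 hk'
    have hmR : r ^ m ∈ R := R.pow_mem hrR m
    obtain ⟨d, hdN, e⟩ := involutions_conj h hm (hMN (hRM hmR)) ht2 (hMN htM)
    rw [← e]
    exact hRN d hdN _ hmR
  letI : CommGroup X :=
    { (inferInstance : Group X) with
      mul_comm := fun a b => Subtype.ext (hXc a a.2 b b.2) }
  let sq : X →* X := powMonoidHom 2
  have hcard : Nat.card sq.ker * Nat.card sq.range = Nat.card X := by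
    rw [← Subgroup.index_ker sq]
    exact Subgroup.card_mul_index sq.ker
  -- the image of squaring as a subgroup of `G`
  let Rg : Subgroup G := sq.range.map X.subtype
  have hRg : ∀ g : G, g ∈ Rg ↔ ∃ w ∈ X, w * w = g := by
    intro g
    constructor
    · rintro ⟨y, ⟨w, rfl⟩, rfl⟩
      exact ⟨w, w.2, by simp [sq, pow_two]⟩
    · rintro ⟨w, hw, rfl⟩
      exact ⟨sq ⟨w, hw⟩, ⟨⟨w, hw⟩, rfl⟩, by simp [sq, pow_two]⟩
  have hRgX : Rg ≤ X := by
    intro g hg
    obtain ⟨w, hw, rfl⟩ := (hRg g).mp hg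
    exact X.mul_mem hw hw
  have hRgN : ∀ n ∈ N, ∀ g ∈ Rg, n * g * n⁻¹ ∈ Rg := by
    intro n hn g hg
    obtain ⟨w, hw, rfl⟩ := (hRg g).mp hg
    exact (hRg _).mpr ⟨n * w * n⁻¹, hXN n hn w hw, by group⟩
  have hRg1 : ∃ r ∈ Rg, r ≠ 1 :=
    ⟨x * x, (hRg _).mpr ⟨x, hxX, rfl⟩, by rw [← pow_two]; exact hx2⟩
  have hER : ∀ t : G, t ∈ M → t ^ 2 = 1 → t ∈ Rg := key Rg (hRgX.trans hXM) hRgN hRg1
  have hEX : ∀ t : G, t ∈ M → t ^ 2 = 1 → t ∈ X := key X hXM hXN ⟨x, hxX, hx1⟩
  -- the two injections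
  have hle1 : Nat.card {t : G // t ∈ M ∧ t ^ 2 = 1} ≤ Nat.card sq.ker := by
    refine Nat.card_le_card_of_injective
      (fun t => (⟨⟨t.1, hEX t.1 t.2.1 t.2.2⟩, ?_⟩ : sq.ker)) ?_
    · rw [MonoidHom.mem_ker]
      apply Subtype.ext
      simp only [sq, powMonoidHom_apply, Subgroup.coe_pow, Subgroup.coe_one]
      exact t.2.2
    · intro a b hab
      apply Subtype.ext
      have := congrArg (fun z : sq.ker => ((z : X) : G)) hab
      exact this
  have hle2 : Nat.card {t : G // t ∈ M ∧ t ^ 2 = 1} ≤ Nat.card sq.range := by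
    refine Nat.card_le_card_of_injective
      (fun t => (⟨⟨t.1, hEX t.1 t.2.1 t.2.2⟩, ?_⟩ : sq.range)) ?_
    · obtain ⟨w, hw, e⟩ := (hRg t.1).mp (hER t.1 t.2.1 t.2.2)
      refine ⟨⟨w, hw⟩, Subtype.ext ?_⟩
      simp only [sq, powMonoidHom_apply, Subgroup.coe_pow, pow_two]
      exact e
    · intro a b hab
      apply Subtype.ext
      have := congrArg (fun z : sq.range => ((z : X) : G)) hab
      exact this
  calc (Nat.card {t : G // t ∈ M ∧ t ^ 2 = 1}) ^ 2
      = Nat.card {t : G // t ∈ M ∧ t ^ 2 = 1} * Nat.card {t : G // t ∈ M ∧ t ^ 2 = 1} := pow_two _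
    _ ≤ Nat.card sq.ker * Nat.card sq.range := Nat.mul_le_mul hle1 hle2
    _ = Nat.card X := hcard

end Cfsg.Agent.Lib.Helper62.CTI

namespace Cfsg.Agent.Lib.Helper31.CTI

open Cfsg Cfsg.Agent.Lib.Helper62.CTI Cfsg.Agent.Lib.Helper21

variable {G : Type*} [Group G]

variable {M N : Subgroup G}

/-- [E-HOMOCYC] (CTI is used here; C-INV, landed S1225.) -/
theorem cdata_comm_of_card_sq [Finite G] (hG : IsCTI G) (h : CData M N) (h2 : IsPGroup 2 M)
    (hcard : Nat.card M = (Nat.card {t : G // t ∈ M ∧ t ^ 2 = 1}) ^ 2) :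
    ∀ a ∈ M, ∀ b ∈ M, a * b = b * a := by
  by_cases hexp : ∀ m ∈ M, m ^ 2 = 1
  · exact comm_of_exponent_two hexp
  push Not at hexp
  obtain ⟨x, hxM, hx2⟩ := hexp
  have hMN := M_le_N h
  obtain ⟨z, hzM, hz2, hzc⟩ := exists_central_involution h
  -- Step A: `N` normalizes `C(x)`
  have hA : ∀ n ∈ N, n ∈ Subgroup.normalizer (Subgroup.centralizer ({x} : Set G) : Set G) := by
    intro n hn
    by_contra hnn
    have hy2 : orderOf (n⁻¹ * z * n) = 2 := by
      have := orderOf_conj_eq_two hz2 n⁻¹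
      rwa [inv_inv] at this
    have hyN : n⁻¹ * z * n ∈ N := N.mul_mem (N.mul_mem (N.inv_mem hn) (hMN hzM)) hn
    obtain ⟨hyM, hyc⟩ := cdata_involution h hyN hy2
    have hy1 : n⁻¹ * z * n = 1 := by
      apply hG x n hnn (n⁻¹ * z * n)
      · show n⁻¹ * z * n ∈ Subgroup.centralizer ({x} : Set G)
        rw [Subgroup.mem_centralizer_singleton_iff]
        exact (hyc x hxM).symm
      · show n * (n⁻¹ * z * n) * n⁻¹ ∈ Subgroup.centralizer ({x} : Set G)
        have : n * (n⁻¹ * z * n) * n⁻¹ = z := by group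
        rw [this, Subgroup.mem_centralizer_singleton_iff]
        exact (hzc x hxM).symm
    rw [hy1, orderOf_one] at hy2
    exact absurd hy2 (by norm_num)
  -- Step B: elements of `C(x)` commute with the `N`-conjugates of `x`
  have hB : ∀ n ∈ N, ∀ c : G, c * x = x * c → c * (n * x * n⁻¹) = (n * x * n⁻¹) * c := by
    intro n hn c hc
    have hnorm := Subgroup.mem_set_normalizer_iff.mp (hA n⁻¹ (N.inv_mem hn)) c
    have hc' : n⁻¹ * c * n⁻¹⁻¹ ∈ Subgroup.centralizer ({x} : Set G) :=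
      hnorm.mp (Subgroup.mem_centralizer_singleton_iff.mpr hc)
    rw [inv_inv, Subgroup.mem_centralizer_singleton_iff] at hc'
    calc c * (n * x * n⁻¹) = n * ((n⁻¹ * c * n) * x) * n⁻¹ := by group
      _ = n * (x * (n⁻¹ * c * n)) * n⁻¹ := by rw [hc']
      _ = (n * x * n⁻¹) * c := by group
  -- the conjugates of `x` commute with `x`
  have hSx : ∀ n ∈ N, (n * x * n⁻¹) * x = x * (n * x * n⁻¹) := by
    intro n hn
    have hnorm := Subgroup.mem_set_normalizer_iff.mp (hA n hn) x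
    have := hnorm.mp (Subgroup.mem_centralizer_singleton_iff.mpr rfl)
    exact Subgroup.mem_centralizer_singleton_iff.mp this
  -- Step C: the subgroup generated by the conjugates
  let S : Set G := {g | ∃ n ∈ N, g = n * x * n⁻¹}
  have hScomm : ∀ a ∈ S, ∀ b ∈ S, a * b = b * a := by
    rintro a ⟨n1, hn1, rfl⟩ b ⟨n2, hn2, rfl⟩
    exact hB n2 hn2 _ (hSx n1 hn1)
  have hXc : ∀ a ∈ Subgroup.closure S, ∀ b ∈ Subgroup.closure S, a * b = b * a := by
    intro a ha b hb
    have := (Subgroup.closureCommGroupOfComm hScomm).mul_comm ⟨a, ha⟩ ⟨b, hb⟩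
    exact congrArg Subtype.val this
  have hXM : Subgroup.closure S ≤ M := by
    rw [Subgroup.closure_le]
    rintro g ⟨n, hn, rfl⟩
    exact conj_mem_M h hn hxM
  have hXN : ∀ n ∈ N, ∀ g ∈ Subgroup.closure S, n * g * n⁻¹ ∈ Subgroup.closure S := by
    intro n hn g hg
    induction hg using Subgroup.closure_induction with
    | mem y hy =>
      obtain ⟨n', hn', rfl⟩ := hy
      apply Subgroup.subset_closure
      exact ⟨n * n', N.mul_mem hn hn', by group⟩
    | one => simp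
    | mul a b _ _ iha ihb =>
      have : n * (a * b) * n⁻¹ = (n * a * n⁻¹) * (n * b * n⁻¹) := by group
      rw [this]; exact Subgroup.mul_mem _ iha ihb
    | inv a _ iha =>
      have : n * a⁻¹ * n⁻¹ = (n * a * n⁻¹)⁻¹ := by group
      rw [this]; exact Subgroup.inv_mem _ iha
  have hxX : x ∈ Subgroup.closure S :=
    Subgroup.subset_closure ⟨1, N.one_mem, by group⟩
  have hle := card_sq_le_of_abelian h h2 (Subgroup.closure S) hXM hXc hXN hxX hx2
  rw [← hcard] at hle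
  have hXeq : Subgroup.closure S = M := Subgroup.eq_of_le_of_card_ge hXM hle
  intro a ha b hb
  rw [← hXeq] at ha hb
  exact hXc a ha b hb

end Cfsg.Agent.Lib.Helper31.CTI
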